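import Mathlib
import Cfsg.Prelude.Def_GeometricClasses
import Cfsg.Agent.Lib.helper15.S5972.Defs
import Cfsg.Agent.Lib.Helper16.OCnt2

set_option autoImplicit false

/-!
# Project ONE (designer helper18): definitions for S5992 + S5993.
`Ω_{2d+1}(q)`, `q` odd, on the nondegenerate hyperbolic / elliptic `m`-spaces (`m` even): elements of prime order.

Vocabulary reused: helper13's S5955 (`STI`, `SND`, `SOrth`, `SInv`, `fixS`, `cycS`), helper15's S5972 (`OCtx`, `stdO`),
helper16's counting type `Cfsg.Agent.Lib.Helper16.OSemi.IsType f m s` (`q · #{f = 0} = q^(2m) + s (q^(m+1) - q^m)`).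
-/

namespace Cfsg.Agent.Lib.Helper18.ONE

open Polynomial Module Cfsg.Agent.Lib.Helper13.S5955 Cfsg.Agent.Lib.helper15.S5972

variable {F : Type*} [Field F] {V : Type*} [AddCommGroup V] [Module F V]

/-- `W` contains a totally isotropic subspace of half its dimension (hyperbolic, if `W` is nondegenerate) -/
def SHyp (B : LinearMap.BilinForm F V) (W : Submodule F V) : Prop :=
  ∃ U : Submodule F V, U ≤ W ∧ STI B U ∧ 2 * finrank F U = finrank F W

/-- the counting type of `B` on `W` (`s = 1`: hyperbolic, `s = -1`: elliptic), for `W` of even dimension: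
`q · #{w ∈ W : B w w = 0} = q^(dim W) + s (q^(dim W / 2 + 1) - q^(dim W / 2))` -/
def OTy [Fintype F] (B : LinearMap.BilinForm F V) (W : Submodule F V) (s : ℤ) : Prop :=
  Cfsg.Agent.Lib.Helper16.OSemi.IsType (fun w : ↥W => B (w : V) (w : V)) (finrank F W / 2) s

/-- `m` is the dimension of some `x`-invariant nondegenerate subspace of type `s` -/
def NDt [Fintype F] (B : LinearMap.BilinForm F V) (x : Module.End F V) (m : ℕ) (s : ℤ) : Prop :=
  ∃ W : Submodule F V, SInv x W ∧ SND B W ∧ finrank F W = m ∧ OTy B W s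

/-- the hyperbolic `m`-spaces of the standard space, as in the frozen statement S5992 -/
abbrev NDp (d m : ℕ) (F : Type*) [Field F] : Type _ :=
  {W : Submodule F (Unit ⊕ (Fin d ⊕ Fin d) → F) //
    Module.finrank F ↥W = m ∧
      Cfsg.Geo.IsNondegenerateOn (QuadraticMap.polar (Cfsg.quadFormOdd d F)) W ∧
      Cfsg.Geo.IsPlusTypeOn (Cfsg.quadFormOdd d F) W}

/-- the elliptic `m`-spaces of the standard space, as in the frozen statement S5993 -/
abbrev NDm (d m : ℕ) (F : Type*) [Field F] : Type _ :=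
  {W : Submodule F (Unit ⊕ (Fin d ⊕ Fin d) → F) //
    Module.finrank F ↥W = m ∧
      Cfsg.Geo.IsNondegenerateOn (QuadraticMap.polar (Cfsg.quadFormOdd d F)) W ∧
      ¬ Cfsg.Geo.IsPlusTypeOn (Cfsg.quadFormOdd d F) W}

/-- the type clause of the frozen statements: `s = 1` plus type (S5992), `s = -1` not of plus type (S5993) -/
def FTy (d : ℕ) {F : Type*} [Field F] (s : ℤ) (W : Submodule F (Unit ⊕ (Fin d ⊕ Fin d) → F)) : Prop :=
  (s = 1 ∧ Cfsg.Geo.IsPlusTypeOn (Cfsg.quadFormOdd d F) W) ∨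
    (s = -1 ∧ ¬ Cfsg.Geo.IsPlusTypeOn (Cfsg.quadFormOdd d F) W)

/-- the arithmetic condition common to S5992 (`s = 1`) and S5993 (`s = -1`), `n = 2d + 1` -/
def UC (i c d m : ℕ) (s : ℤ) : Prop :=
  c ≤ m ∧ m % c < (2 * d + 1) % c ∧ (0 < m % c ∨ (s = 1 ↔ (Odd i ∨ Even (m / i))))

end Cfsg.Agent.Lib.Helper18.ONE
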